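import Mathlib

/-!
# TEAM HALLPRO (S2223), SLNUM: the 2-parts of `|SL_m(q)|` and `|SU_m(q)|` (helper24)

`card_sl`, `card_su`; both follow from `card_int` (with `x = q`, `x = -q`).
-/

set_option autoImplicit false

namespace Cfsg.Agent.H24.Hall

/-- `2 ^ (c + v₂(k))` divides `x ^ k - 1` if `2 ^ c` divides `x - 1`, `c ≥ 1` -/
theorem dvd_pow_two (x : ℤ) {c : ℕ} (hc : 1 ≤ c) (h : (2 : ℤ) ^ c ∣ x - 1) (v : ℕ) :
    (2 : ℤ) ^ (c + v) ∣ x ^ 2 ^ v - 1 := by
  induction v with
  | zero => rw [add_zero, pow_zero, pow_one]; exact h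
  | succ v ih =>
    have h1 : x ^ 2 ^ (v + 1) - 1 = (x ^ 2 ^ v - 1) * (x ^ 2 ^ v + 1) := by
      rw [pow_succ 2 v, pow_mul]
      ring
    have h2 : (2 : ℤ) ∣ x ^ 2 ^ v + 1 := by
      have h3 : (2 : ℤ) ∣ x ^ 2 ^ v - 1 := (dvd_pow_self 2 (by omega)).trans ih
      have h4 : x ^ 2 ^ v + 1 = (x ^ 2 ^ v - 1) + 2 := by ring
      rw [h4]
      exact dvd_add h3 dvd_rfl
    rw [h1, ← add_assoc, pow_succ]
    exact mul_dvd_mul ih h2

theorem dvd_pow (x : ℤ) {c : ℕ} (hc : 1 ≤ c) (h : (2 : ℤ) ^ c ∣ x - 1) (k : ℕ) :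
    (2 : ℤ) ^ (c + k.factorization 2) ∣ x ^ k - 1 := by
  have h1 := dvd_pow_two x hc h (k.factorization 2)
  refine h1.trans ?_
  obtain ⟨u, hu⟩ := Nat.ordProj_dvd k 2
  conv_rhs => rw [hu, pow_mul]
  exact sub_one_dvd_pow_sub_one _ _
where
  sub_one_dvd_pow_sub_one (y : ℤ) (u : ℕ) : y - 1 ∣ y ^ u - 1 := by
    have := sub_dvd_pow_sub_pow y 1 u
    rwa [one_pow] at this

theorem prod_dvd (s : Finset ℕ) (f : ℕ → ℕ) (g : ℕ → ℤ) (h : ∀ k ∈ s, (2 : ℤ) ^ f k ∣ g k) :
    (2 : ℤ) ^ (∑ k ∈ s, f k) ∣ ∏ k ∈ s, g k := by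
  rw [← Finset.prod_pow_eq_pow_sum]
  exact Finset.prod_dvd_prod_of_dvd _ _ h

theorem fact_half {j : ℕ} (hj : j ≠ 0) :
    (j.factorial.factorization 2) = ((j - 1).factorial.factorization 2) + j.factorization 2 := by
  obtain ⟨i, rfl⟩ := Nat.exists_eq_succ_of_ne_zero hj
  rw [Nat.factorial_succ, Nat.factorization_mul (by omega) (Nat.factorial_ne_zero i), Finsupp.add_apply, add_comm]
  rfl

theorem fac_two_mul {j : ℕ} (hj : j ≠ 0) : (2 * j).factorization 2 = 1 + j.factorization 2 := by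
  rw [Nat.factorization_mul (by norm_num) hj, Finsupp.add_apply, Nat.Prime.factorization_self Nat.prime_two]

theorem fac_odd {k : ℕ} (hk : ¬ Even k) : k.factorization 2 = 0 :=
  Nat.factorization_eq_zero_of_not_dvd fun h => hk (even_iff_two_dvd.2 h)

/-- the exponents, `4 ∤ x - 1` -/
theorem sum_one {m : ℕ} (hm : 1 ≤ m) :
    ∑ k ∈ Finset.Icc 2 m, (if Even k then 3 + (k / 2).factorization 2 else 1) =
      2 * m - 2 + (m / 2).factorial.factorization 2 + if Even m then 1 else 0 := by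
  induction m, hm using Nat.le_induction with
  | base => simp
  | succ m hm ih =>
    rw [Finset.sum_Icc_succ_top (by omega), ih]
    rcases Nat.even_or_odd m with he | ho
    · have h1 : ¬ Even (m + 1) := by
        rw [Nat.not_even_iff_odd]
        exact he.add_one
      rw [if_pos he, if_neg h1, if_neg h1]
      have h2 : (m + 1) / 2 = m / 2 := by
        obtain ⟨r, hr⟩ := he
        omega
      rw [h2]
      omega
    · have h1 : Even (m + 1) := ho.add_one
      rw [if_neg (Nat.not_even_iff_odd.2 ho), if_pos h1, if_pos h1]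
      have h2 : (m + 1) / 2 ≠ 0 := by omega
      have h3 : m / 2 = (m + 1) / 2 - 1 := by
        obtain ⟨r, hr⟩ := ho
        omega
      rw [fact_half h2, h3]
      omega

/-- the exponents, `4 ∣ x - 1` -/
theorem sum_two {m : ℕ} (hm : 1 ≤ m) :
    ∑ k ∈ Finset.Icc 2 m, (2 + k.factorization 2) = 2 * m - 2 + (m / 2).factorial.factorization 2 + m / 2 := by
  induction m, hm using Nat.le_induction with
  | base => simp
  | succ m hm ih =>
    rw [Finset.sum_Icc_succ_top (by omega), ih]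
    rcases Nat.even_or_odd m with he | ho
    · have h1 : ¬ Even (m + 1) := by
        rw [Nat.not_even_iff_odd]
        exact he.add_one
      rw [fac_odd h1]
      have h2 : (m + 1) / 2 = m / 2 := by
        obtain ⟨r, hr⟩ := he
        omega
      rw [h2]
      omega
    · have h2 : (m + 1) / 2 ≠ 0 := by omega
      have h3 : m / 2 = (m + 1) / 2 - 1 := by
        obtain ⟨r, hr⟩ := ho
        omega
      have h5 : 2 * ((m + 1) / 2) = m + 1 := by
        obtain ⟨r, hr⟩ := ho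
        omega
      have h4 : (m + 1).factorization 2 = 1 + ((m + 1) / 2).factorization 2 := by
        rw [← fac_two_mul h2, h5]
      rw [fact_half h2, h4, ← h3]
      omega

theorem two_mul_le_pow (v : ℕ) : 2 * v ≤ 2 ^ v := by
  induction v with
  | zero => simp
  | succ v ih =>
    rw [pow_succ]
    rcases Nat.eq_zero_or_pos v with rfl | hv
    · norm_num
    · omega

theorem fac_le_half {m : ℕ} (hm : 1 ≤ m) : m.factorization 2 ≤ m / 2 := by
  have h1 : 2 ^ m.factorization 2 ≤ m := Nat.le_of_dvd hm (Nat.ordProj_dvd m 2)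
  have h2 := two_mul_le_pow (m.factorization 2)
  omega

theorem card_int (x : ℤ) (hx : Odd x) {m : ℕ} (hm : 1 ≤ m) :
    (2 : ℤ) ^ (2 * m - 2 + (m / 2).factorial.factorization 2) * 2 ^ ((Int.gcd m (x - 1)).factorization 2) ∣
      ∏ k ∈ Finset.Icc 2 m, (x ^ k - 1) := by
  rw [← pow_add]
  have hg : Int.gcd m (x - 1) ∣ m := by
    have := Int.gcd_dvd_left (a := (m : ℤ)) (b := x - 1)
    exact_mod_cast this
  have hg0 : Int.gcd m (x - 1) ≠ 0 := fun h => by
    rw [h, zero_dvd_iff] at hg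
    omega
  by_cases h4 : (4 : ℤ) ∣ x - 1
  · refine (pow_dvd_pow 2 ?_).trans (prod_dvd _ (fun k => 2 + k.factorization 2) _ fun k _ =>
      dvd_pow x (by norm_num) (by norm_num; exact h4) k)
    rw [sum_two hm]
    have h1 : (Int.gcd m (x - 1)).factorization 2 ≤ m.factorization 2 :=
      (Nat.factorization_le_iff_dvd hg0 (by omega)).2 hg 2
    have h2 := fac_le_half hm
    omega
  · refine (pow_dvd_pow 2 ?_).trans (prod_dvd _ (fun k => if Even k then 3 + (k / 2).factorization 2 else 1) _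
      fun k _ => ?_)
    · rw [sum_one hm]
      refine Nat.add_le_add_left ?_ _
      by_cases he : Even m
      · rw [if_pos he]
        by_contra hcon
        push Not at hcon
        apply h4
        have h1 : 2 ^ 2 ∣ Int.gcd m (x - 1) := (pow_dvd_pow 2 hcon).trans (Nat.ordProj_dvd _ 2)
        have h2 : ((Int.gcd m (x - 1) : ℕ) : ℤ) ∣ x - 1 := Int.gcd_dvd_right _ _
        have h3 : (((2 ^ 2 : ℕ)) : ℤ) ∣ x - 1 := (Int.natCast_dvd_natCast.2 h1).trans h2
        norm_num at h3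
        exact h3
      · rw [if_neg he]
        have h1 : (Int.gcd m (x - 1)).factorization 2 ≤ m.factorization 2 :=
          (Nat.factorization_le_iff_dvd hg0 (by omega)).2 hg 2
        rw [fac_odd he] at h1
        exact h1
    · by_cases he : Even k
      · simp only [if_pos he]
        obtain ⟨j, hj⟩ := he
        have h1 : k = 2 * j := by omega
        have h2 : k / 2 = j := by omega
        rw [h2, h1, pow_mul]
        refine dvd_pow (x ^ 2) (by norm_num) ?_ j
        obtain ⟨r, hr⟩ := hx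
        have h3 : x ^ 2 - 1 = 4 * (r * (r + 1)) := by rw [hr]; ring
        rw [h3]
        obtain ⟨s, hs⟩ := Int.even_mul_succ_self r
        rw [hs]
        exact ⟨s, by ring⟩
      · simp only [if_neg he]
        rw [pow_one]
        have h1 : (2 : ℤ) ∣ x - 1 := by
          obtain ⟨r, hr⟩ := hx
          exact ⟨r, by rw [hr]; ring⟩
        refine h1.trans ?_
        have := sub_dvd_pow_sub_pow x 1 k
        rwa [one_pow] at this

/-- **SLNUM**, linear. -/
theorem card_sl {q m : ℕ} (hq : Odd q) (hm : 1 ≤ m) :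
    2 ^ (2 * m - 2 + (m / 2).factorial.factorization 2) * 2 ^ ((Nat.gcd m (q - 1)).factorization 2) ∣
      ∏ k ∈ Finset.Icc 2 m, (q ^ k - 1) := by
  have h1 := card_int (q : ℤ) (by exact_mod_cast hq) hm
  have hq1 : 1 ≤ q := hq.pos
  have h2 : Int.gcd (m : ℤ) ((q : ℤ) - 1) = Nat.gcd m (q - 1) := by
    rw [show (q : ℤ) - 1 = ((q - 1 : ℕ) : ℤ) by push_cast [hq1]; ring, Int.gcd_natCast_natCast]
  have h3 : ∏ k ∈ Finset.Icc 2 m, ((q : ℤ) ^ k - 1) = ((∏ k ∈ Finset.Icc 2 m, (q ^ k - 1) : ℕ) : ℤ) := by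
    rw [Nat.cast_prod]
    refine Finset.prod_congr rfl fun k _ => ?_
    have : 1 ≤ q ^ k := Nat.one_le_pow _ _ hq1
    push_cast [this]
    ring
  rw [h2, h3] at h1
  exact_mod_cast h1

/-- **SLNUM**, unitary. -/
theorem card_su {q m : ℕ} (hq : Odd q) (hm : 1 ≤ m) :
    2 ^ (2 * m - 2 + (m / 2).factorial.factorization 2) * 2 ^ ((Nat.gcd m (q + 1)).factorization 2) ∣
      ∏ k ∈ Finset.Icc 2 m, (if Even k then q ^ k - 1 else q ^ k + 1) := by
  have h1 := card_int (-(q : ℤ)) (by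
    have : Odd (q : ℤ) := by exact_mod_cast hq
    exact this.neg) hm
  have hq1 : 1 ≤ q := hq.pos
  have h2 : Int.gcd (m : ℤ) (-(q : ℤ) - 1) = Nat.gcd m (q + 1) := by
    rw [show -(q : ℤ) - 1 = -((q + 1 : ℕ) : ℤ) by push_cast; ring, Int.gcd_neg, Int.gcd_natCast_natCast]
  have h3 : ∏ k ∈ Finset.Icc 2 m, ((-(q : ℤ)) ^ k - 1) ∣
      ((∏ k ∈ Finset.Icc 2 m, (if Even k then q ^ k - 1 else q ^ k + 1) : ℕ) : ℤ) := by
    rw [Nat.cast_prod]
    refine Finset.prod_dvd_prod_of_dvd _ _ fun k _ => ?_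
    have : 1 ≤ q ^ k := Nat.one_le_pow _ _ hq1
    by_cases he : Even k
    · rw [if_pos he, he.neg_pow]
      push_cast [this]
      exact dvd_rfl
    · rw [if_neg he, (Nat.not_even_iff_odd.1 he).neg_pow]
      refine ⟨-1, ?_⟩
      push_cast
      ring
  rw [h2] at h1
  have h4 := h1.trans h3
  exact_mod_cast h4

end Cfsg.Agent.H24.Hall
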